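import Groth.Agent.AlgSp.QCMor
import Groth.Agent.AlgSp.NormQf
import Groth.Agent.AlgSp.InfGlue
import Groth.Agent.AlgSp.Diag
import Groth.Agent.IsoCls.LoopGeom
import Mathlib.AlgebraicGeometry.AlgClosed.Basic

/-!
Points of étale charts of algebraic spaces over algebraically closed fields, and the separatedness
input for valuative arguments.
-/

set_option autoImplicit false
set_option linter.unusedVariables false
set_option backward.isDefEq.respectTransparency false
set_option backward.isDefEq.respectTransparency.types false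

universe u

open CategoryTheory CategoryTheory.Limits AlgebraicGeometry Opposite Topology

namespace Groth.Agent.DVRSpace

open _root_.AlgSp

variable {S : Scheme.{u}}

/-- The spectrum of an algebra over the base ring, over `S`. -/
noncomputable abbrev sp {A₀ R : Type u} [CommRing A₀] [CommRing R]
    (u₀ : Spec (CommRingCat.of A₀) ⟶ S) (φ : A₀ →+* R) : Over S :=
  Over.mk (Spec.map (CommRingCat.ofHom φ) ≫ u₀)

/-- Its structure map to the base. -/
noncomputable abbrev spTo {A₀ R : Type u} [CommRing A₀] [CommRing R]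
    (u₀ : Spec (CommRingCat.of A₀) ⟶ S) (φ : A₀ →+* R) : sp u₀ φ ⟶ Over.mk u₀ :=
  Over.homMk (Spec.map (CommRingCat.ofHom φ)) rfl

/-- The map of spectra of a map of algebras. -/
noncomputable abbrev spMap {A₀ R R' : Type u} [CommRing A₀] [CommRing R] [CommRing R']
    (u₀ : Spec (CommRingCat.of A₀) ⟶ S) {φ : A₀ →+* R} {φ' : A₀ →+* R'} (ψ : R →+* R')
    (h : ψ.comp φ = φ') : sp u₀ φ' ⟶ sp u₀ φ :=
  Over.homMk (Spec.map (CommRingCat.ofHom ψ)) (by
    change Spec.map (CommRingCat.ofHom ψ) ≫ Spec.map (CommRingCat.ofHom φ) ≫ u₀ = _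
    rw [← Spec.map_comp_assoc, ← CommRingCat.ofHom_comp, h]
    rfl)

theorem spMap_to {A₀ R R' : Type u} [CommRing A₀] [CommRing R] [CommRing R']
    (u₀ : Spec (CommRingCat.of A₀) ⟶ S) {φ : A₀ →+* R} {φ' : A₀ →+* R'} (ψ : R →+* R')
    (h : ψ.comp φ = φ') : spMap u₀ ψ h ≫ spTo u₀ φ = spTo u₀ φ' :=
  Over.OverMorphism.ext (by
    change Spec.map (CommRingCat.ofHom ψ) ≫ Spec.map (CommRingCat.ofHom φ) = _
    rw [← Spec.map_comp, ← CommRingCat.ofHom_comp, h]
    rfl)

theorem spMap_comp {A₀ R R' R'' : Type u} [CommRing A₀] [CommRing R] [CommRing R'] [CommRing R'']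
    (u₀ : Spec (CommRingCat.of A₀) ⟶ S) {φ : A₀ →+* R} {φ' : A₀ →+* R'} {φ'' : A₀ →+* R''}
    (ψ : R →+* R') (h : ψ.comp φ = φ') (ψ' : R' →+* R'') (h' : ψ'.comp φ' = φ'')
    (χ : R →+* R'') (hχ : χ.comp φ = φ'') (hc : ψ'.comp ψ = χ) :
    spMap u₀ ψ' h' ≫ spMap u₀ ψ h = spMap u₀ χ hχ :=
  Over.OverMorphism.ext (by
    change Spec.map (CommRingCat.ofHom ψ') ≫ Spec.map (CommRingCat.ofHom ψ) = _
    rw [← Spec.map_comp, ← CommRingCat.ofHom_comp, hc]
    rfl)

theorem specMap_ker_eq_bot {R R' : Type u} [CommRing R] [CommRing R'] (ψ : R →+* R')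
    (h : Function.Injective ψ) : (Spec.map (CommRingCat.ofHom ψ)).ker = ⊥ := by
  have := IsoCls.isSchemeTheoreticallyDominant_specMap (CommRingCat.ofHom ψ) h
  exact IsSchemeTheoreticallyDominant.ker_eq_bot _

/-- Maps to a separated space agreeing on a scheme-theoretically dense part are equal. -/
theorem eq_of_ker_eq_bot {U : Over S} {A : Sp S} (a : A ⟶ (yon S).obj U) (hsep : IsSeparatedMor a)
    {T T' : Over S} (j : T' ⟶ T) (hj : j.left.ker = ⊥) (l₁ l₂ : (yon S).obj T ⟶ A)
    (hl : l₁ ≫ a = l₂ ≫ a) (h : (yon S).map j ≫ l₁ = (yon S).map j ≫ l₂) : l₁ = l₂ := by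
  let L := pullback.lift l₁ l₂ hl
  obtain ⟨Z, snd, fst, hZ⟩ := hsep.1 L
  have : IsClosedImmersion snd.left := hsep.2 _ fst snd hZ
  have hw : ((yon S).map j ≫ l₁) ≫ pullback.diagonal a = (yon S).map j ≫ L := by
    apply pullback.hom_ext
    · simp only [L, Category.assoc, pullback.diagonal_fst, pullback.lift_fst, Category.comp_id]
    · simp only [L, Category.assoc, pullback.diagonal_snd, pullback.lift_snd, Category.comp_id]
      exact h
  obtain ⟨k, hk⟩ := (yon S).map_surjective (hZ.lift _ _ hw)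
  have hks : k ≫ snd = j := (yon S).map_injective (by rw [Functor.map_comp, hk, hZ.lift_snd])
  have hb : snd.left.ker = ⊥ := le_bot_iff.1 (by
    refine (Scheme.Hom.le_ker_comp k.left snd.left).trans ?_
    rw [← Over.comp_left, hks, hj])
  have : IsIso snd.left := IsClosedImmersion.isIso_iff_ker_eq_bot.2 hb
  have : IsIso ((Over.forget S).map snd) := this
  have : IsIso snd := isIso_of_reflects_iso snd (Over.forget S)
  have h1 : fst = (yon S).map snd ≫ l₁ := by
    have := congrArg (· ≫ pullback.fst a a) hZ.w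
    simpa [L] using this
  have h2 : fst = (yon S).map snd ≫ l₂ := by
    have := congrArg (· ≫ pullback.snd a a) hZ.w
    simpa [L] using this
  exact (cancel_epi ((yon S).map snd)).1 (h1.symm.trans h2)

/-- Maps from a field to a separated space agree once they agree after a field extension. -/
theorem eq_of_field {A₀ : Type u} [CommRing A₀] (u₀ : Spec (CommRingCat.of A₀) ⟶ S) {A : Sp S}
    (a : A ⟶ (yon S).obj (Over.mk u₀)) (hsep : IsSeparatedMor a) {L M : Type u} [CommRing L] [CommRing M]
    {φ : A₀ →+* L} {φ' : A₀ →+* M} (ψ : L →+* M) (h : ψ.comp φ = φ') (hψ : Function.Injective ψ)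
    (l₁ l₂ : (yon S).obj (sp u₀ φ) ⟶ A) (hl : l₁ ≫ a = l₂ ≫ a)
    (he : (yon S).map (spMap u₀ ψ h) ≫ l₁ = (yon S).map (spMap u₀ ψ h) ≫ l₂) : l₁ = l₂ :=
  eq_of_ker_eq_bot a hsep _ (specMap_ker_eq_bot ψ hψ) l₁ l₂ hl he

/-- An étale scheme has a geometric point through each of its points. -/
theorem exists_point_of_etale {T Q : Over S} (e : Q ⟶ T) [Etale e.left] {M : Type u} [Field M]
    [IsAlgClosed M] (str : Spec (CommRingCat.of M) ⟶ S) (m : Over.mk str ⟶ T) (q : Q.left)
    (hq : e.left q = m.left (IsLocalRing.closedPoint M)) :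
    ∃ σ : Over.mk str ⟶ Q, σ ≫ e = m ∧ σ.left (IsLocalRing.closedPoint M) = q := by
  obtain ⟨z, hz, -⟩ := Scheme.Pullback.exists_preimage_pullback q (IsLocalRing.closedPoint M)
    (f := e.left) (g := m.left) hq
  let f : pullback e.left m.left ⟶ Spec (CommRingCat.of M) := pullback.snd e.left m.left
  have hdisc : DiscreteTopology ↥(pullback e.left m.left) := by
    have : LocallyQuasiFinite f := Groth.Agent.AlgSpB.locallyQuasiFinite_of_etale _
    have h := f.isDiscrete_preimage_singleton (IsLocalRing.closedPoint M)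
    have hu : f ⁻¹' {IsLocalRing.closedPoint M} = Set.univ :=
      Set.eq_univ_of_forall fun x => Subsingleton.elim _ _
    rw [hu] at h
    exact isDiscrete_univ_iff.1 h
  have hcl : IsClosed ({z} : Set ↥(pullback e.left m.left)) := isClosed_discrete _
  let p := pointOfClosedPoint f z hcl
  have hp : p ≫ pullback.snd e.left m.left = 𝟙 _ := pointOfClosedPoint_comp f z hcl
  refine ⟨Over.homMk (p ≫ pullback.fst e.left m.left) ?_, Over.OverMorphism.ext ?_, ?_⟩
  · change (p ≫ pullback.fst e.left m.left) ≫ Q.hom = str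
    rw [← Over.w e, Category.assoc, reassoc_of% pullback.condition (f := e.left) (g := m.left),
      reassoc_of% hp]
    exact Over.w m
  · change (p ≫ pullback.fst e.left m.left) ≫ e.left = m.left
    rw [Category.assoc, pullback.condition, reassoc_of% hp]
  · change (p ≫ pullback.fst e.left m.left) _ = q
    rw [Scheme.Hom.comp_apply, pointOfClosedPoint_apply, hz]

/-- Lifts of a geometric point to a quasi-compact étale chart are finite in number. -/
theorem finite_lifts {A : Sp S} {W : Over S} (α : (yon S).obj W ⟶ A) (hα : RepWith @Etale α)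
    (hαq : IsQuasiCompactMor α) {M : Type u} [Field M] [IsAlgClosed M]
    (str : Spec (CommRingCat.of M) ⟶ S) (x : (yon S).obj (Over.mk str) ⟶ A) :
    Finite {j : Over.mk str ⟶ W // (yon S).map j ≫ α = x} := by
  obtain ⟨Q, snd, fst, hQ⟩ := hα.1 x
  obtain ⟨fst, rfl⟩ := (yon S).map_surjective fst
  have : Etale snd.left := hα.2 _ _ snd hQ
  have hK : CompactSpace Q.left := by
    have : CompactSpace (Over.mk str : Over S).left :=
      inferInstanceAs (CompactSpace ↥(Spec (CommRingCat.of M)))
    have := AlgSp.compactSpace_points (hαq (IsAlgSpace.yon_obj _)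
      (Groth.Agent.AlgSp.isQuasiCompactSp_yon (Over.mk str)) x _ _ hQ)
    exact Groth.Agent.AlgSp.compactSpace_of_yon Q
  let snd' : Q.left ⟶ Spec (CommRingCat.of M) := snd.left
  have : Etale snd' := ‹Etale snd.left›
  have hdisc : DiscreteTopology ↥Q.left := by
    have := Groth.Agent.AlgSpB.locallyQuasiFinite_of_etale snd'
    have h := snd'.isDiscrete_preimage_singleton (IsLocalRing.closedPoint M)
    have hu : snd' ⁻¹' {IsLocalRing.closedPoint M} = Set.univ :=
      Set.eq_univ_of_forall fun x => Subsingleton.elim _ _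
    rw [hu] at h
    exact isDiscrete_univ_iff.1 h
  have : Finite ↥Q.left := finite_of_compact_of_discrete
  have hex : ∀ j : {j : Over.mk str ⟶ W // (yon S).map j ≫ α = x},
      ∃ σ : Over.mk str ⟶ Q, σ ≫ snd = 𝟙 _ ∧ σ ≫ fst = j.1 := by
    intro j
    obtain ⟨σ, hσ⟩ := (yon S).map_surjective (hQ.lift ((yon S).map j.1) (𝟙 _)
      (by rw [Category.id_comp]; exact j.2))
    exact ⟨σ, (yon S).map_injective (by rw [Functor.map_comp, hσ, hQ.lift_snd, CategoryTheory.Functor.map_id]),
      (yon S).map_injective (by rw [Functor.map_comp, hσ, hQ.lift_fst])⟩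
  choose σ hσ hσf using hex
  refine Finite.of_injective (fun j => (σ j).left (IsLocalRing.closedPoint M)) fun j j' h => ?_
  apply Subtype.ext
  rw [← hσf j, ← hσf j']
  congr 1
  exact Over.OverMorphism.ext (ext_of_apply_closedPoint_eq snd' (congrArg (fun x => x.left) (hσ j))
    (congrArg (fun x => x.left) (hσ j')) h)

end Groth.Agent.DVRSpace
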