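import Groth.Agent.DVRSpace.Basic
import Groth.Agent.DVRCrit.Basic

/-!
Centres of valuation rings in a chart of an algebraic space from lifting of discrete valuation
rings.
-/

set_option autoImplicit false
set_option linter.unusedVariables false
set_option backward.isDefEq.respectTransparency false
set_option backward.isDefEq.respectTransparency.types false

universe u

open CategoryTheory CategoryTheory.Limits AlgebraicGeometry Opposite Topology

namespace Groth.Agent.DVRSpace

open _root_.AlgSp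

variable {S : Scheme.{u}} {A₀ : Type u} [CommRing A₀]

/-- Every generic point of a discrete valuation ring in the space extends to the whole ring. -/
def DVRLift (u₀ : Spec (CommRingCat.of A₀) ⟶ S) {A : Sp S}
    (a : A ⟶ (yon S).obj (Over.mk u₀)) : Prop :=
  ∀ (R : Type u) [CommRing R] [IsDomain R] [IsDiscreteValuationRing R] (L : Type u) [Field L]
    [Algebra R L] [IsFractionRing R L] (φR : A₀ →+* R) (φL : A₀ →+* L)
    (h : (algebraMap R L).comp φR = φL) (s : (yon S).obj (sp u₀ φL) ⟶ A),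
    s ≫ a = (yon S).map (spTo u₀ φL) →
      ∃ l : (yon S).obj (sp u₀ φR) ⟶ A, l ≫ a = (yon S).map (spTo u₀ φR) ∧
        (yon S).map (spMap u₀ (algebraMap R L) h) ≫ l = s

/-- A map over the base from a spectrum to the chart is a map of algebras. -/
theorem exists_algHom {B R : Type u} [CommRing B] [CommRing R]
    (u₀ : Spec (CommRingCat.of A₀) ⟶ S) (φW : A₀ →+* B) (φ : A₀ →+* R)
    (j : sp u₀ φ ⟶ sp u₀ φW) (hj : j ≫ spTo u₀ φW = spTo u₀ φ) :
    ∃ (β : B →+* R) (h : β.comp φW = φ), spMap u₀ β h = j := by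
  obtain ⟨β, hβ⟩ := Spec.map_surjective j.left
  refine ⟨β.hom, ?_, Over.OverMorphism.ext hβ⟩
  have h1 : Spec.map β ≫ Spec.map (CommRingCat.ofHom φW) = Spec.map (CommRingCat.ofHom φ) := by
    rw [hβ]; exact congrArg (fun x => x.left) hj
  rw [← Spec.map_comp] at h1
  exact congrArg CommRingCat.Hom.hom (Spec.map_injective h1)

/-- A valuation ring over the base has a centre in the chart. -/
theorem exists_center [IsNoetherianRing A₀] {B : Type u} [CommRing B]
    (u₀ : Spec (CommRingCat.of A₀) ⟶ S) {A : Sp S} (a : A ⟶ (yon S).obj (Over.mk u₀))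
    (hsep : IsSeparatedMor a) (φW : A₀ →+* B) (hφW : φW.FiniteType)
    (α : (yon S).obj (sp u₀ φW) ⟶ A) (hαa : α ≫ a = (yon S).map (spTo u₀ φW))
    (hα : RepWith @Etale α) (hαs : RepWith @Surjective α) (hαq : IsQuasiCompactMor α)
    (H : DVRLift u₀ a) {M : Type u} [Field M] [IsAlgClosed M] (φM : A₀ →+* M)
    (x : (yon S).obj (sp u₀ φM) ⟶ A) (hx : x ≫ a = (yon S).map (spTo u₀ φM))
    (V : ValuationSubring M) (hV : ∀ c, φM c ∈ V) :
    ∃ (β : B →+* M) (h : β.comp φW = φM),
      (yon S).map (spMap u₀ β h) ≫ α = x ∧ ∀ b, β b ∈ V := by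
  classical
  let W := sp u₀ φW
  let J := {j : sp u₀ φM ⟶ W // (yon S).map j ≫ α = x}
  have : Finite J := finite_lifts α hα hαq _ x
  have : Fintype J := Fintype.ofFinite J
  have hJ : ∀ j : J, ∃ (β : B →+* M) (h : β.comp φW = φM), spMap u₀ β h = j.1 := fun j =>
    exists_algHom u₀ φW φM j.1 ((yon S).map_injective (by
      rw [Functor.map_comp, ← hαa, ← Category.assoc, j.2, hx]))
  choose β hβ hβj using hJ
  letI := φW.toAlgebra
  obtain ⟨G, hG⟩ := (show Algebra.FiniteType A₀ B from hφW).out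
  -- values on generators control all values
  have hgen : ∀ (j : J) (R : Subring M), (∀ c, φM c ∈ R) → (∀ g ∈ G, β j g ∈ R) → ∀ b, β j b ∈ R := by
    intro j R hR hgR b
    have hb : b ∈ Algebra.adjoin A₀ (G : Set B) := hG ▸ trivial
    induction hb using Algebra.adjoin_induction with
    | mem g hg => exact hgR g hg
    | algebraMap c => exact (RingHom.congr_fun (hβ j) c).symm ▸ hR c
    | add x y _ _ hx hy => rw [map_add]; exact add_mem hx hy
    | mul x y _ _ hx hy => rw [map_mul]; exact mul_mem hx hy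
  by_contra hcon
  have hbad : ∀ j : J, ∃ g ∈ G, β j g ∉ V := by
    intro j
    by_contra! hall
    exact hcon ⟨β j, hβ j, by rw [hβj]; exact j.2, hgen j V.toSubring hV hall⟩
  choose g hgG hgV using hbad
  -- a lift exists
  obtain ⟨j₀⟩ : Nonempty J := by
    obtain ⟨Q, snd, fst, hQ⟩ := hα.1 x
    obtain ⟨fst, rfl⟩ := (yon S).map_surjective fst
    have : Etale snd.left := hα.2 _ _ snd hQ
    have : Surjective snd.left := hαs.2 _ _ snd hQ
    obtain ⟨q, hq⟩ := snd.left.surjective (IsLocalRing.closedPoint M)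
    obtain ⟨σ, hσ, -⟩ := exists_point_of_etale snd _ (𝟙 _) q hq
    refine ⟨⟨σ ≫ fst, ?_⟩⟩
    rw [Functor.map_comp, Category.assoc, hQ.w, ← Category.assoc, ← Functor.map_comp, hσ,
      CategoryTheory.Functor.map_id, Category.id_comp]
  -- the field of values
  let S₀ : Set M := Set.range φM ∪ ⋃ j : J, β j '' (G : Set B)
  let L : Subfield M := Subfield.closure S₀
  let φL : A₀ →+* L := φM.codRestrict L fun c => Subfield.subset_closure (.inl ⟨c, rfl⟩)
  have hmem : ∀ (j : J) b, β j b ∈ L := fun j =>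
    hgen j L.toSubring (fun c => Subfield.subset_closure (.inl ⟨c, rfl⟩))
      fun g hg => Subfield.subset_closure (.inr (Set.mem_iUnion.2 ⟨j, g, hg, rfl⟩))
  let βL : B →+* L := (β j₀).codRestrict L (hmem j₀)
  have hβL : βL.comp φW = φL := RingHom.ext fun c => Subtype.ext (RingHom.congr_fun (hβ j₀) c)
  let xL := (yon S).map (spMap u₀ βL hβL) ≫ α
  have hxLa : xL ≫ a = (yon S).map (spTo u₀ φL) := by
    rw [Category.assoc, hαa, ← Functor.map_comp, spMap_to]
  have hxLM : (yon S).map (spMap u₀ L.subtype (rfl : L.subtype.comp φL = φM)) ≫ xL = x := by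
    rw [← Category.assoc, ← Functor.map_comp,
      spMap_comp u₀ βL hβL L.subtype rfl (β j₀) (hβ j₀) rfl, hβj]
    exact j₀.2
  -- the avoiding discrete valuation ring
  let Gens : Set L := L.subtype ⁻¹' (⋃ j : J, β j '' (G : Set B))
  have hGens : Gens.Finite :=
    (Set.finite_iUnion fun j => G.finite_toSet.image _).preimage Subtype.val_injective.injOn
  have htop : Subfield.closure (Set.range φL ∪ Gens) = ⊤ := by
    rw [eq_top_iff]
    intro z _
    have h1 : z.1 ∈ (Subfield.closure (Set.range φL ∪ Gens)).map L.subtype := by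
      refine (Subfield.closure_le (s := S₀)).2 ?_ z.2
      rintro y (⟨c, rfl⟩ | hy)
      · exact ⟨φL c, Subfield.subset_closure (.inl ⟨c, rfl⟩), rfl⟩
      · exact ⟨⟨y, Subfield.subset_closure (.inr hy)⟩, Subfield.subset_closure (.inr hy), rfl⟩
    obtain ⟨z', hz', he⟩ := h1
    exact Subtype.ext he ▸ hz'
  let Z : Finset L := Finset.univ.image fun j : J => ⟨β j (g j), hmem j (g j)⟩
  obtain ⟨R, hR, hAR, hZR⟩ := DVRCrit.exists_dvr_avoiding φL hGens htop (V.comap L.subtype)
    (fun c => hV c) Z ⟨_, Finset.mem_image.2 ⟨j₀, Finset.mem_univ _, rfl⟩⟩ (by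
      intro z hz
      obtain ⟨j, -, rfl⟩ := Finset.mem_image.1 hz
      exact hgV j)
  haveI := hR
  let φR : A₀ →+* R := φL.codRestrict R.toSubring hAR
  have hφR : (algebraMap R L).comp φR = φL := rfl
  obtain ⟨l, hla, hl⟩ := H R L φR φL hφR xL hxLa
  -- the chart over the discrete valuation ring
  obtain ⟨Q, e, fst, hQ⟩ := hα.1 l
  obtain ⟨fst, rfl⟩ := (yon S).map_surjective fst
  have : Etale e.left := hα.2 _ _ e hQ
  have : Surjective e.left := hαs.2 _ _ e hQ
  obtain ⟨q₀, hq₀⟩ := e.left.surjective (IsLocalRing.closedPoint R)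
  obtain ⟨O, hO, hq₀O, -⟩ := exists_isAffineOpen_mem_and_subset (x := q₀) (U := ⊤) trivial
  let i : R →+* M := L.subtype.comp (algebraMap R L)
  have hi : i.comp φR = φM := rfl
  have hinj : Function.Injective i := L.subtype_injective.comp (IsFractionRing.injective R L)
  let m := spMap u₀ i hi
  have hgenpt : m.left (IsLocalRing.closedPoint M) ⤳ e.left q₀ := by
    rw [hq₀]
    exact IsLocalRing.specializes_closedPoint _
  obtain ⟨q₁, hq₁, hq₁e⟩ := Flat.generalizingMap e.left hgenpt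
  obtain ⟨σ, hσe, hσq⟩ := exists_point_of_etale e _ m q₁ hq₁e
  have hj : (yon S).map (σ ≫ fst) ≫ α = x := by
    rw [Functor.map_comp, Category.assoc, hQ.w, ← Category.assoc, ← Functor.map_comp, hσe]
    rw [show m = spMap u₀ L.subtype rfl ≫ spMap u₀ (algebraMap R L) hφR from
      (spMap_comp u₀ _ hφR L.subtype rfl i hi rfl).symm, Functor.map_comp, Category.assoc, hl,
      hxLM]
  let j : J := ⟨σ ≫ fst, hj⟩
  -- everything inside an affine open of the chart
  have hrange : Set.range σ.left ⊆ Set.range hO.fromSpec := by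
    rw [hO.range_fromSpec]
    rintro _ ⟨p, rfl⟩
    obtain rfl : p = IsLocalRing.closedPoint M :=
      Subsingleton.elim (α := ↥(Spec (CommRingCat.of M))) _ _
    rw [hσq]
    exact hq₁.mem_open O.2 hq₀O
  obtain ⟨ε, hε⟩ := Spec.map_surjective (IsOpenImmersion.lift hO.fromSpec σ.left hrange)
  have hεσ : Spec.map ε ≫ hO.fromSpec = σ.left := by rw [hε, IsOpenImmersion.lift_fac]
  obtain ⟨τ, hτ⟩ := Spec.map_surjective (hO.fromSpec ≫ e.left)
  obtain ⟨γ, hγ⟩ := Spec.map_surjective (hO.fromSpec ≫ fst.left)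
  have hετ : ε.hom.comp τ.hom = i := by
    have h1 : Spec.map ε ≫ Spec.map τ = Spec.map (CommRingCat.ofHom i) := by
      rw [hτ, ← Category.assoc, hεσ]
      exact congrArg (fun x => x.left) hσe
    rw [← Spec.map_comp] at h1
    exact congrArg CommRingCat.Hom.hom (Spec.map_injective h1)
  have hεγ : ε.hom.comp γ.hom = β j := by
    have h1 : Spec.map ε ≫ Spec.map γ = Spec.map (CommRingCat.ofHom (β j)) := by
      rw [hγ, ← Category.assoc, hεσ]
      exact (congrArg (fun x => x.left) (hβj j)).symm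
    rw [← Spec.map_comp] at h1
    exact congrArg CommRingCat.Hom.hom (Spec.map_injective h1)
  let p₀ := hO.primeIdealOf ⟨q₀, hq₀O⟩
  let p₁ : PrimeSpectrum Γ(Q.left, O) := PrimeSpectrum.comap ε.hom (IsLocalRing.closedPoint M)
  have hp₁ : hO.fromSpec p₁ = q₁ := by
    rw [← hσq, ← hεσ]; rfl
  have hp : p₁ ≤ p₀ := by
    rw [PrimeSpectrum.le_iff_specializes]
    refine hO.fromSpec.isOpenEmbedding.isInducing.specializes_iff.1 ?_
    change hO.fromSpec p₁ ⤳ hO.fromSpec p₀
    rw [hp₁, hO.fromSpec_primeIdealOf]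
    exact hq₁
  have hx₀ : (⟨β j (g j), hmem j (g j)⟩ : L) ∉ R :=
    hZR _ (Finset.mem_image.2 ⟨j, Finset.mem_univ _, rfl⟩)
  set x₀ : L := ⟨β j (g j), hmem j (g j)⟩ with hx₀def
  have hx₀ne : x₀ ≠ 0 := fun h => hx₀ (h ▸ zero_mem R)
  obtain ⟨r, hr⟩ : ∃ r : R, algebraMap R L r = x₀⁻¹ :=
    ⟨⟨x₀⁻¹, (R.mem_or_inv_mem x₀).resolve_left hx₀⟩, rfl⟩
  have hrm : r ∈ IsLocalRing.maximalIdeal R := by
    intro hu
    obtain ⟨r', hr'⟩ := isUnit_iff_exists_inv.1 hu
    apply hx₀
    have h1 : x₀⁻¹ * algebraMap R L r' = 1 := by rw [← hr, ← map_mul, hr', map_one]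
    rw [← inv_inv x₀, inv_eq_of_mul_eq_one_right h1]
    exact r'.2
  have hr₀ : τ.hom r ∈ p₀.asIdeal := by
    have h1 : PrimeSpectrum.comap τ.hom p₀ = IsLocalRing.closedPoint R := by
      change Spec.map τ p₀ = _
      rw [hτ, Scheme.Hom.comp_apply, hO.fromSpec_primeIdealOf]
      exact hq₀
    have h2 : r ∈ (PrimeSpectrum.comap τ.hom p₀).asIdeal := h1.symm ▸ hrm
    exact h2
  have h1 : ε.hom (γ.hom (g j) * τ.hom r - 1) = 0 := by
    rw [map_sub, map_mul, map_one, ← RingHom.comp_apply, hεγ, ← RingHom.comp_apply, hετ,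
      sub_eq_zero]
    calc β j (g j) * i r = ((x₀ * algebraMap R L r : L) : M) := rfl
      _ = 1 := by rw [hr, mul_inv_cancel₀ hx₀ne]; rfl
  have h2 : γ.hom (g j) * τ.hom r - 1 ∈ p₀.asIdeal := hp (by
    change ε.hom _ ∈ (IsLocalRing.closedPoint M).asIdeal
    rw [h1]
    exact zero_mem _)
  apply p₀.isPrime.ne_top
  rw [Ideal.eq_top_iff_one]
  simpa using sub_mem (p₀.asIdeal.mul_mem_left (γ.hom (g j)) hr₀) h2

end Groth.Agent.DVRSpace
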