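import Groth.Agent.DVRSpace.Proper
import Groth.Agent.StFib.Props2
import Groth.Agent.AlgSpCov.FpqcTop
import Groth.Agent.AlgSpCov.Covers
import Mathlib.AlgebraicGeometry.Noetherian

/-!
The valuative criterion over a locally Noetherian base, and sections of proper spaces over discrete
valuation rings.
-/

set_option autoImplicit false
set_option linter.unusedVariables false
set_option backward.isDefEq.respectTransparency false
set_option backward.isDefEq.respectTransparency.types false

universe u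

open CategoryTheory CategoryTheory.Limits AlgebraicGeometry Opposite Topology

namespace Groth.Agent.DVRSpace

open _root_.AlgSp
open Groth.Agent.StFib (good_univClosed good_separated good_lft good_quasiCompact)

variable {S : Scheme.{u}}

theorem isLocalOnBase_univClosed (S : Scheme.{u}) :
    IsLocalOnBase (IsFppfCover (S := S)) IsUnivClosedMor := by
  intro ι Y Yi g hY hYi hg X f hX Xi p q hXi sq
  exact ⟨fun h i => (good_univClosed (S := S)).bc hX hY (hXi i) (hYi i) f (g i) (p i) (q i) (sq i) h,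
    fun h => Groth.Agent.AlgSpCov.isUnivClosedMor_of_fpqc
      (Groth.Agent.AlgSpCov.isFpqcCover_of_isFppfCover hY hYi hg) sq h⟩

/-- Universal closedness over a locally Noetherian scheme from lifting of discrete valuation
rings. -/
theorem isUnivClosedMor_of_lift {W : Over S} [IsLocallyNoetherian W.left] {A : Sp S}
    (hA : IsAlgSpace A) (a : A ⟶ (yon S).obj W) (hsep : IsSeparatedMor a) (hft : IsFiniteTypeMor a)
    (H : ∀ {A₀ : Type u} [CommRing A₀] (u₀ : Spec (CommRingCat.of A₀) ⟶ S)
      (l : Over.mk u₀ ⟶ W) (R : Type u) [CommRing R] [IsDomain R] [IsDiscreteValuationRing R]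
      (L : Type u) [Field L] [Algebra R L] [IsFractionRing R L] (φR : A₀ →+* R) (φL : A₀ →+* L)
      (h : (algebraMap R L).comp φR = φL) (s : (yon S).obj (sp u₀ φL) ⟶ A),
      s ≫ a = (yon S).map (spTo u₀ φL ≫ l) →
        ∃ r : (yon S).obj (sp u₀ φR) ⟶ A, r ≫ a = (yon S).map (spTo u₀ φR ≫ l) ∧
          (yon S).map (spMap u₀ (algebraMap R L) h) ≫ r = s) : IsUnivClosedMor a := by
  let 𝒰 := W.left.affineCover
  let A₀ : 𝒰.I₀ → CommRingCat.{u} := fun i => Γ(𝒰.X i, ⊤)
  let g₀ : ∀ i, Spec (A₀ i) ⟶ W.left := fun i => (𝒰.X i).isoSpec.inv ≫ 𝒰.f i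
  let u₀ : ∀ i, Spec (A₀ i) ⟶ S := fun i => g₀ i ≫ W.hom
  let V : 𝒰.I₀ → Over S := fun i => Over.mk (u₀ i)
  let l : ∀ i, V i ⟶ W := fun i => Over.homMk (g₀ i) rfl
  have hoi : ∀ i, IsOpenImmersion (l i).left := fun i =>
    inferInstanceAs (IsOpenImmersion ((𝒰.X i).isoSpec.inv ≫ 𝒰.f i))
  have hcov : IsFppfCover (fun i => (yon S).obj (V i)) (fun i => (yon S).map (l i)) := by
    refine ⟨fun i => ⟨?_, ?_⟩, fun t => ?_⟩
    · exact Groth.Agent.AlgSpCov.locP_of_repWith Groth.Agent.AlgSpCov.etaleLocal_flat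
        ((repWith_yon_map_iff _ _).2 (have := hoi i; inferInstance))
    · exact Groth.Agent.AlgSpCov.locP_of_repWith
        Groth.Agent.AlgSpCov.etaleLocal_locallyOfFinitePresentation
        ((repWith_yon_map_iff _ _).2 (have := hoi i; inferInstance))
    · obtain ⟨t, rfl⟩ := (Points.schemeHomeo W).surjective t
      obtain ⟨i, w, hw⟩ := 𝒰.exists_eq t
      refine ⟨i, Points.schemeHomeo (V i) ((𝒰.X i).isoSpec.hom w), ?_⟩
      rw [Points.map_yon_map_apply]
      refine congrArg _ ?_
      change ((𝒰.X i).isoSpec.hom ≫ (𝒰.X i).isoSpec.inv ≫ 𝒰.f i) w = t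
      rw [Iso.hom_inv_id_assoc]
      exact hw
  refine ((isLocalOnBase_univClosed S) _ _ (IsAlgSpace.yon_obj W)
    (fun i => IsAlgSpace.yon_obj (V i)) hcov a hA
    (fun i => pullback a ((yon S).map (l i))) (fun i => pullback.snd _ _)
    (fun i => pullback.fst _ _)
    (fun i => Groth.Agent.AlgSp.isAlgSpace_pullback (IsAlgSpace.yon_obj W) hA
      (IsAlgSpace.yon_obj (V i)) _ _)
    (fun i => IsPullback.of_hasPullback _ _)).2 fun i => ?_
  have : IsLocallyNoetherian (Spec (A₀ i)) :=
    have := hoi i; isLocallyNoetherian_of_isOpenImmersion (l i).left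
  have hNo : IsNoetherianRing (A₀ i) := isLocallyNoetherian_Spec.1 this
  have hW := IsAlgSpace.yon_obj (S := S) W
  have hV := IsAlgSpace.yon_obj (S := S) (V i)
  have hP := Groth.Agent.AlgSp.isAlgSpace_pullback hW hA hV a ((yon S).map (l i))
  have hsfi := (good_separated.inf (good_lft.inf good_quasiCompact)).bc hA hW hP hV a _
    (pullback.snd _ _) (pullback.fst _ _) (IsPullback.of_hasPullback _ _) ⟨hsep, hft.1, hft.2⟩
  refine @isUnivClosedMor_of_dvrLift S (A₀ i) _ hNo (u₀ i) _ hP
    (pullback.snd a ((yon S).map (l i))) hsfi.1 hsfi.2 ?_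
  intro R _ _ _ L _ _ _ φR φL h s hs
  obtain ⟨r, hr, hr'⟩ := H (u₀ i) (l i) R L φR φL h (s ≫ pullback.fst _ _) (by
    rw [Category.assoc, pullback.condition, reassoc_of% hs, ← Functor.map_comp])
  refine ⟨pullback.lift r ((yon S).map (spTo (u₀ i) φR)) (hr.trans ((yon S).map_comp _ _)),
    pullback.lift_snd _ _ _, ?_⟩
  apply pullback.hom_ext
  · rw [Category.assoc, pullback.lift_fst]
    exact hr'
  · rw [Category.assoc, pullback.lift_snd, hs, ← Functor.map_comp, spMap_to]

/-- A section over the generic point of a proper space over a discrete valuation ring extends. -/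
theorem exists_section_of_proper {A₀ : Type u} [CommRing A₀]
    (u₀ : Spec (CommRingCat.of A₀) ⟶ S) {R : Type u} [CommRing R] [IsDomain R]
    [IsDiscreteValuationRing R] {L : Type u} [Field L] [Algebra R L] [IsFractionRing R L]
    (φR : A₀ →+* R) (φL : A₀ →+* L) (h : (algebraMap R L).comp φR = φL) {A : Sp S}
    (hA : IsAlgSpace A) (a : A ⟶ (yon S).obj (sp u₀ φR)) (hp : IsProperMor a)
    (s : (yon S).obj (sp u₀ φL) ⟶ A)
    (hs : s ≫ a = (yon S).map (spMap u₀ (algebraMap R L) h)) :
    ∃ l : (yon S).obj (sp u₀ φR) ⟶ A, l ≫ a = 𝟙 _ ∧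
      (yon S).map (spMap u₀ (algebraMap R L) h) ≫ l = s := by
  let u : Spec (CommRingCat.of R) ⟶ S := Spec.map (CommRingCat.ofHom φR) ≫ u₀
  have hstr : (sp u (algebraMap R L)).hom = (sp u₀ φL).hom := by
    change Spec.map _ ≫ Spec.map _ ≫ u₀ = Spec.map _ ≫ u₀
    rw [← Spec.map_comp_assoc, ← CommRingCat.ofHom_comp, h]
  let i : sp u (algebraMap R L) ⟶ sp u₀ φL := Over.homMk (𝟙 _) (by
    rw [hstr]; exact Category.id_comp _)
  let i' : sp u₀ φL ⟶ sp u (algebraMap R L) := Over.homMk (𝟙 _) (by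
    rw [hstr]; exact Category.id_comp _)
  let k : sp u₀ φR ⟶ sp u (RingHom.id R) := Over.homMk (𝟙 _) (by
    change 𝟙 _ ≫ Spec.map (CommRingCat.ofHom (RingHom.id R)) ≫ u = u
    rw [CommRingCat.ofHom_id, Spec.map_id]
    erw [Category.id_comp, Category.id_comp])
  obtain ⟨l₀, hl₀, hl₀'⟩ := dvrLift_of_isUnivClosedMor u hA a hp.1 hp.2.1 hp.2.2 R L
    (RingHom.id R) (algebraMap R L) (RingHom.comp_id _) ((yon S).map i ≫ s) (by
      rw [Category.assoc, hs, ← Functor.map_comp]
      exact congrArg _ (Over.OverMorphism.ext (Category.id_comp _)))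
  refine ⟨(yon S).map k ≫ l₀, ?_, ?_⟩
  · rw [Category.assoc, hl₀, ← Functor.map_comp]
    refine (congrArg (yon S).map ?_).trans ((yon S).map_id _)
    refine Over.OverMorphism.ext ?_
    change 𝟙 _ ≫ Spec.map (CommRingCat.ofHom (RingHom.id R)) = 𝟙 _
    rw [CommRingCat.ofHom_id, Spec.map_id]
    erw [Category.id_comp]
  · rw [← Category.assoc, ← Functor.map_comp,
      show spMap u₀ (algebraMap R L) h ≫ k =
          i' ≫ spMap u (algebraMap R L) (RingHom.comp_id _) from
        Over.OverMorphism.ext ((Category.comp_id _).trans (Category.id_comp _).symm),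
      Functor.map_comp, Category.assoc, hl₀', ← Category.assoc, ← Functor.map_comp,
      show i' ≫ i = 𝟙 _ from Over.OverMorphism.ext (Category.id_comp _),
      CategoryTheory.Functor.map_id, Category.id_comp]

end Groth.Agent.DVRSpace
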