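import Groth.Agent.DVRSpace.UnivClosed
import Mathlib.AlgebraicGeometry.Morphisms.SchemeTheoreticallyDominant
import Mathlib.RingTheory.Flat.TorsionFree

/-!
A universally closed separated space of finite type over an affine scheme has lifting of discrete
valuation rings, without extension of the ring.
-/

set_option autoImplicit false
set_option linter.unusedVariables false
set_option backward.isDefEq.respectTransparency false
set_option backward.isDefEq.respectTransparency.types false

universe u

open CategoryTheory CategoryTheory.Limits AlgebraicGeometry Opposite Topology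

namespace Groth.Agent.DVRSpace

open _root_.AlgSp

variable {S : Scheme.{u}}

theorem mem_fppf {T Z : Over S} (q : T ⟶ Z) [Flat q.left] [Surjective q.left]
    [LocallyOfFinitePresentation q.left] :
    Sieve.ofArrows (fun _ : PUnit.{1} => T) (fun _ => q) ∈ AlgSp.J S Z :=
  Groth.Agent.AlgSp.mem_of_fppf q ⟨_, 𝟙 _, q, ⟨⟨⟩⟩, Category.id_comp _⟩

/-- Two maps agreeing on an fppf cover are equal. -/
theorem hom_ext_fppf {F : Sp S} {T Z : Over S} (q : T ⟶ Z) [Flat q.left] [Surjective q.left]
    [LocallyOfFinitePresentation q.left] (l l' : (yon S).obj Z ⟶ F)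
    (h : (yon S).map q ≫ l = (yon S).map q ≫ l') : l = l' := by
  refine (J S).uliftYonedaEquiv.injective ?_
  refine (Presieve.isSeparatedFor_iff_generate.2
    (((isSheaf_iff_isSheaf_of_type _ _).1 F.property).isSeparated _ (mem_fppf q))).ext ?_
  rintro Y f ⟨⟨⟩⟩
  rw [(J S).uliftYonedaEquiv_naturality, (J S).uliftYonedaEquiv_naturality, h]

/-- A compatible map on an fppf cover descends. -/
theorem exists_glue_fppf {F : Sp S} {T Z : Over S} (q : T ⟶ Z) [Flat q.left] [Surjective q.left]
    [LocallyOfFinitePresentation q.left] (s : (yon S).obj T ⟶ F)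
    (h : ∀ (V : Over S) (a b : V ⟶ T), a ≫ q = b ≫ q →
      (yon S).map a ≫ s = (yon S).map b ≫ s) :
    ∃ l : (yon S).obj Z ⟶ F, (yon S).map q ≫ l = s := by
  have hF : (Presieve.ofArrows (fun _ : PUnit.{1} => T) fun _ => q).IsSheafFor F.obj :=
    (Presieve.isSheafFor_iff_generate _).2
      (((isSheaf_iff_isSheaf_of_type _ _).1 F.property) _ (mem_fppf q))
  obtain ⟨t, ht, -⟩ := (Presieve.isSheafFor_arrows_iff F.obj _).1 hF
    (fun _ => (J S).uliftYonedaEquiv s) fun _ _ V a b w => by
      rw [(J S).uliftYonedaEquiv_naturality, (J S).uliftYonedaEquiv_naturality, h V a b w]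
  refine ⟨(J S).uliftYonedaEquiv.symm t, ?_⟩
  rw [(J S).uliftYonedaEquiv_symm_naturality_left, Equiv.symm_apply_eq]
  exact ht ⟨⟩

theorem eq_closedPoint_or_generic {R L : Type u} [CommRing R] [IsDomain R]
    [IsDiscreteValuationRing R] [Field L] [Algebra R L] [IsFractionRing R L]
    (z : PrimeSpectrum R) :
    z = IsLocalRing.closedPoint R ∨
      z = PrimeSpectrum.comap (algebraMap R L) (IsLocalRing.closedPoint L) := by
  by_cases h : z.asIdeal = ⊥
  · refine Or.inr (PrimeSpectrum.ext ?_)
    change z.asIdeal = (IsLocalRing.maximalIdeal L).comap (algebraMap R L)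
    rw [h, IsLocalRing.isField_iff_maximalIdeal_eq.1 (Field.toIsField L),
      ← RingHom.ker_eq_comap_bot]
    exact ((RingHom.injective_iff_ker_eq_bot _).1 (IsFractionRing.injective R L)).symm
  · exact Or.inl (PrimeSpectrum.ext (IsLocalRing.eq_maximalIdeal (z.isPrime.isMaximal h)))

theorem isLocalization_away_uniformizer {R L : Type u} [CommRing R] [IsDomain R]
    [IsDiscreteValuationRing R] [Field L] [Algebra R L] [IsFractionRing R L] {ϖ : R}
    (hϖ : Irreducible ϖ) : IsLocalization.Away ϖ L := by
  have hinj := IsFractionRing.injective R L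
  have h0 : algebraMap R L ϖ ≠ 0 := (map_ne_zero_iff _ hinj).2 hϖ.ne_zero
  refine ⟨?_, fun x => ?_, fun {x y} h => ⟨1, by rw [hinj h]⟩⟩
  · rintro ⟨_, n, rfl⟩
    simp [isUnit_iff_ne_zero, h0]
  · obtain ⟨a, b, hb, rfl⟩ := IsFractionRing.div_surjective R x
    obtain ⟨n, v, rfl⟩ :=
      IsDiscreteValuationRing.eq_unit_mul_pow_irreducible (nonZeroDivisors.ne_zero hb) hϖ
    refine ⟨(a * ↑v⁻¹, ⟨ϖ ^ n, n, rfl⟩), ?_⟩
    have hv : algebraMap R L (v : R) ≠ 0 := (map_ne_zero_iff _ hinj).2 v.ne_zero
    have hvv : algebraMap R L (v : R) * algebraMap R L (↑v⁻¹ : R) = 1 := by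
      rw [← map_mul, Units.mul_inv, map_one]
    simp only [map_mul, map_pow]
    field_simp
    linear_combination -(algebraMap R L a) * hvv

/-- A map to the spectrum of a discrete valuation ring which is schematically dominated by a
scheme over the generic point is flat. -/
theorem flat_of_dominated {R L : Type u} [CommRing R] [IsDomain R] [IsDiscreteValuationRing R]
    [Field L] [Algebra R L] [IsFractionRing R L] {X Y : Scheme.{u}} [IsAffine Y]
    (q : Y ⟶ Spec (CommRingCat.of R)) (e : X ⟶ Y) (he : Function.Injective e.appTop)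
    (g : X ⟶ Spec (CommRingCat.of L))
    (hg : g ≫ Spec.map (CommRingCat.ofHom (algebraMap R L)) = e ≫ q) : Flat q := by
  let R' := CommRingCat.of R
  let ψ : R' ⟶ Γ(Y, ⊤) := (Scheme.ΓSpecIso R').inv ≫ q.appTop
  let γ : CommRingCat.of L ⟶ Γ(X, ⊤) := (Scheme.ΓSpecIso (CommRingCat.of L)).inv ≫ g.appTop
  have hq : q = Y.isoSpec.hom ≫ Spec.map ψ := by
    simp only [ψ, Scheme.isoSpec_hom, Spec.map_comp]
    rw [← Scheme.toSpecΓ_naturality_assoc, ← SpecMap_ΓSpecIso_hom, ← Spec.map_comp,
      Iso.inv_hom_id, Spec.map_id, Category.comp_id]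
  have hcomm : ψ ≫ e.appTop = CommRingCat.ofHom (algebraMap R L) ≫ γ := by
    simp only [ψ, γ, Category.assoc, ← Scheme.Hom.comp_appTop, ← hg]
    rw [Scheme.Hom.comp_appTop, ← Scheme.ΓSpecIso_inv_naturality_assoc]
  rw [hq]
  have : Flat (Spec.map ψ) := by
    rw [HasRingHomProperty.Spec_iff (P := @Flat), RingHom.Flat]
    letI := ψ.hom.toAlgebra
    rw [Module.Flat.flat_iff_torsion_eq_bot_of_isBezout, ← Submodule.isTorsionFree_iff_torsion_eq_bot]
    refine ⟨fun r hr x y hxy => he ?_⟩
    have hr' : IsUnit (e.appTop (ψ r)) := by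
      rw [← CommRingCat.comp_apply, hcomm, CommRingCat.comp_apply]
      exact (isUnit_iff_ne_zero.2 ((map_ne_zero_iff _ (IsFractionRing.injective R L)).2 hr.ne_zero)).map _
    refine hr'.mul_left_cancel ?_
    rw [← map_mul, ← map_mul]
    exact congrArg e.appTop hxy
  infer_instance

/-- Lifting of discrete valuation rings from properness. -/
theorem dvrLift_of_isUnivClosedMor {A₀ : Type u} [CommRing A₀]
    (u₀ : Spec (CommRingCat.of A₀) ⟶ S) {A : Sp S} (hA : IsAlgSpace A)
    (a : A ⟶ (yon S).obj (Over.mk u₀)) (hsep : IsSeparatedMor a) (hft : IsFiniteTypeMor a)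
    (huc : IsUnivClosedMor a) : DVRLift u₀ a := by
  intro R _ _ _ L _ _ _ φR φL h s hs
  obtain ⟨B, φW, α, hφW, hα, hαs, hαa, hαq⟩ := exists_chart u₀ hA a hsep hft
  let W := sp u₀ φW
  let Z := sp u₀ φR
  let ZL := sp u₀ φL
  let j : ZL ⟶ Z := spMap u₀ (algebraMap R L) h
  let zU : Z ⟶ Over.mk u₀ := spTo u₀ φR
  let k := spTo u₀ φW
  have : IsAffine W.left := inferInstanceAs (IsAffine (Spec B))
  have : IsAffine Z.left := inferInstanceAs (IsAffine (Spec (CommRingCat.of R)))
  have : IsAffine (Over.mk u₀ : Over S).left := inferInstanceAs (IsAffine (Spec (CommRingCat.of A₀)))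
  obtain ⟨ϖ, hϖ⟩ := IsDiscreteValuationRing.exists_irreducible R
  have : IsLocalization.Away ϖ L := isLocalization_away_uniformizer hϖ
  have : IsOpenImmersion j.left := IsOpenImmersion.of_isLocalization ϖ
  have : Mono j := by
    have : Mono ((Over.forget S).map j) := inferInstanceAs (Mono j.left)
    exact (Over.forget S).mono_of_mono_map this
  -- the base changes to the valuation ring
  let WZ : Over S := Over.mk (pullback.fst k.left zU.left ≫ W.hom)
  let pr₁ : WZ ⟶ W := Over.homMk (pullback.fst k.left zU.left) rfl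
  let pr₂ : WZ ⟶ Z := Over.homMk (pullback.snd k.left zU.left) (by
    change _ = pullback.fst k.left zU.left ≫ W.hom
    rw [← Over.w k, ← Category.assoc, pullback.condition, Category.assoc, Over.w zU])
  have hWZ : IsPullback pr₁ pr₂ k zU :=
    IsPullback.of_map (Over.forget S) (Over.OverMorphism.ext pullback.condition)
      (IsPullback.of_hasPullback k.left zU.left)
  have : IsAffine WZ.left := inferInstanceAs (IsAffine (pullback k.left zU.left))
  have hkl : LocallyOfFiniteType k.left :=
    (HasRingHomProperty.Spec_iff (P := @LocallyOfFiniteType)).2 hφW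
  have : LocallyOfFiniteType pr₂.left :=
    inferInstanceAs (LocallyOfFiniteType (pullback.snd k.left zU.left))
  let P := pullback a ((yon S).map zU)
  let fst : P ⟶ A := pullback.fst _ _
  let snd : P ⟶ (yon S).obj Z := pullback.snd _ _
  have sq : IsPullback fst snd a ((yon S).map zU) := IsPullback.of_hasPullback _ _
  have hsqY := hWZ.map (yon S)
  have hlift : ((yon S).map pr₁ ≫ α) ≫ a = (yon S).map pr₂ ≫ (yon S).map zU := by
    rw [Category.assoc, hαa]
    exact hsqY.w
  let αZ := sq.lift _ _ hlift
  have sq₂ : IsPullback ((yon S).map pr₁) αZ α fst :=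
    IsPullback.of_bot (by rw [sq.lift_snd, hαa]; exact hsqY) (sq.lift_fst _ _ hlift).symm sq
  have hαZ : RepWith @Etale αZ := MorphismProperty.of_isPullback sq₂ hα
  have hαZs : RepWith @Surjective αZ := MorphismProperty.of_isPullback sq₂ hαs
  have hs' : s ≫ a = (yon S).map j ≫ (yon S).map zU := by
    rw [hs, ← Functor.map_comp, spMap_to]
  let s' := sq.lift s ((yon S).map j) hs'
  -- the points of the chart over the generic point
  obtain ⟨Q, qL, qW', hQ⟩ := hαZ.1 s'
  obtain ⟨qW, rfl⟩ := (yon S).map_surjective qW'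
  have : Etale qL.left := hαZ.2 _ _ qL hQ
  have : Surjective qL.left := hαZs.2 _ _ qL hQ
  have hQ' : IsPullback ((yon S).map qW ≫ (yon S).map pr₁) ((yon S).map qL) α s := by
    have := (hQ.paste_horiz sq₂)
    rwa [show s' ≫ fst = s from sq.lift_fst _ _ hs'] at this
  have : CompactSpace Q.left := by
    have : CompactSpace ZL.left := inferInstanceAs (CompactSpace ↥(Spec (CommRingCat.of L)))
    have := AlgSp.compactSpace_points (hαq (IsAlgSpace.yon_obj _)
      (Groth.Agent.AlgSp.isQuasiCompactSp_yon ZL) s _ _ hQ')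
    exact Groth.Agent.AlgSp.compactSpace_of_yon Q
  have : QuasiCompact qW.left :=
    (HasAffineProperty.iff_of_isAffine (P := @QuasiCompact)).2 inferInstance
  have hqq : qW ≫ pr₂ = qL ≫ j := (yon S).map_injective (by
    rw [Functor.map_comp, Functor.map_comp, ← sq.lift_snd s ((yon S).map j) hs',
      ← sq.lift_snd _ _ hlift, ← Category.assoc, ← Category.assoc]
    exact congrArg (· ≫ snd) hQ.w)
  -- the closure meets the closed fibre
  let p₀ : Points P := Points.ofPt s' (IsLocalRing.closedPoint L)
  let z₀ : Z.left := IsLocalRing.closedPoint R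
  have hcl := (Groth.Agent.AlgSp.isUnivClosedMor_iff_affine a).1 huc Z inferInstance _ P fst snd sq
    (closure {p₀}) isClosed_closure
  have hp₀ : Points.map snd p₀ = Points.schemeHomeo Z (j.left (IsLocalRing.closedPoint L)) := by
    rw [Points.map_ofPt, sq.lift_snd]
    change _ = Points.ofPt (𝟙 _) _
    rw [← Groth.Agent.AlgSpB.ofPt_map_comp, Category.comp_id]
  obtain ⟨Q₀, hQ₀, hQ₀z⟩ : Points.schemeHomeo Z z₀ ∈ Points.map snd '' closure {p₀} := by
    refine ((IsLocalRing.specializes_closedPoint (j.left (IsLocalRing.closedPoint L))).map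
      (Points.schemeHomeo Z).continuous).mem_closed hcl ?_
    exact ⟨p₀, subset_closure rfl, hp₀⟩
  obtain ⟨w, rfl⟩ := Groth.Agent.AlgSpB.surjective_ofPt hαZs Q₀
  have hw : w ∈ closure (Set.range qW.left) := by
    refine closure_mono ?_ ?_ (s := Points.ofPt αZ ⁻¹' {p₀})
    · intro x hx
      obtain ⟨y, hy, -⟩ := (Groth.Agent.AlgSpB.ofPt_eq_ofPt_iff hQ x _).1 hx
      exact ⟨y, hy⟩
    · rw [← (Groth.Agent.AlgSpB.isOpenMap_ofPt hαZ).preimage_closure_eq_closure_preimage
        (Points.continuous_ofPt αZ)]
      exact hQ₀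
  have hpw : pr₂.left w = z₀ := by
    refine (Points.schemeHomeo Z).injective (Eq.trans ?_ hQ₀z)
    rw [Points.map_ofPt, sq.lift_snd]
    change Points.ofPt (𝟙 _) (pr₂.left w) = _
    rw [← Groth.Agent.AlgSpB.ofPt_map_comp, Category.comp_id]
  -- the closure as a cover of the valuation ring
  let Im := qW.left.image
  let i : Im ⟶ WZ.left := qW.left.imageι
  let T : Over S := Over.mk (i ≫ WZ.hom)
  let t : T ⟶ WZ := Over.homMk i rfl
  let q : T ⟶ Z := t ≫ pr₂
  let e : Q ⟶ T := Over.homMk qW.left.toImage (by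
    change qW.left.toImage ≫ i ≫ WZ.hom = _
    rw [qW.left.toImage_imageι_assoc]
    exact Over.w qW)
  have het : e ≫ t = qW := Over.OverMorphism.ext qW.left.toImage_imageι
  have heq : e ≫ q = qL ≫ j := by rw [← hqq, ← het, Category.assoc]
  have : IsClosedImmersion t.left := inferInstanceAs (IsClosedImmersion qW.left.ker.subschemeι)
  have : IsAffine T.left := isAffine_of_isAffineHom t.left
  have hinj : Function.Injective e.left.appTop :=
    qW.left.toImage_app_injective ⟨⊤, isAffineOpen_top _⟩
  have : Flat q.left := flat_of_dominated q.left e.left hinj qL.left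
    (congrArg (fun x => x.left) heq).symm
  have : LocallyOfFiniteType q.left := inferInstanceAs (LocallyOfFiniteType (t.left ≫ pr₂.left))
  have : IsLocallyNoetherian Z.left :=
    inferInstanceAs (IsLocallyNoetherian (Spec (CommRingCat.of R)))
  have : LocallyOfFinitePresentation q.left := LocallyOfFinitePresentation.iff_locallyOfFiniteType.2 ‹_›
  have hrange : Set.range t.left = closure (Set.range qW.left) := by
    change Set.range qW.left.ker.subschemeι = _
    rw [Scheme.IdealSheafData.range_subschemeι, Scheme.Hom.support_ker]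
  have : Surjective q.left := ⟨fun z => by
    obtain rfl | rfl := eq_closedPoint_or_generic (L := L) z
    · obtain ⟨w', hw'⟩ := hrange.symm ▸ hw
      exact ⟨w', by change pr₂.left (t.left w') = _; rw [hw']; exact hpw⟩
    · obtain ⟨y, hy⟩ := qL.left.surjective (IsLocalRing.closedPoint L)
      refine ⟨e.left y, ?_⟩
      have h1 := congrArg (fun f : Q ⟶ Z => f.left y) heq
      simp only [Over.comp_left, Scheme.Hom.comp_apply] at h1
      exact h1.trans (congrArg j.left hy)⟩
  let r : (yon S).obj T ⟶ A := (yon S).map (t ≫ pr₁) ≫ α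
  have hra : r ≫ a = (yon S).map (q ≫ zU) := by
    rw [Category.assoc, hαa, ← Functor.map_comp, Category.assoc, hWZ.w, ← Category.assoc]
  have her : (yon S).map e ≫ r = (yon S).map qL ≫ s := by
    rw [← Category.assoc, ← Functor.map_comp, ← Category.assoc, het, Functor.map_comp]
    exact hQ'.w
  -- descent
  have : QuasiCompact e.left := inferInstanceAs (QuasiCompact qW.left.toImage)
  have hdom : IsSchemeTheoreticallyDominant e.left := by
    constructor
    refine Scheme.IdealSheafData.ext_of_isAffine ?_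
    rw [Scheme.Hom.ker_apply, Scheme.IdealSheafData.ideal_bot, Pi.bot_apply,
      ← RingHom.injective_iff_ker_eq_bot]
    exact hinj
  obtain ⟨l, hl⟩ := exists_glue_fppf q r (by
    intro V a' b' hab
    let TT : Over S := Over.mk (pullback.fst q.left q.left ≫ T.hom)
    let c₁ : TT ⟶ T := Over.homMk (pullback.fst q.left q.left) rfl
    let c₂ : TT ⟶ T := Over.homMk (pullback.snd q.left q.left) (by
      change _ = pullback.fst q.left q.left ≫ T.hom
      rw [← Over.w q, pullback.condition_assoc])
    have hc : c₁ ≫ q = c₂ ≫ q := Over.OverMorphism.ext pullback.condition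
    let V₁ : Over S := Over.mk (pullback.snd e.left c₁.left ≫ TT.hom)
    let j₁ : V₁ ⟶ TT := Over.homMk (pullback.snd e.left c₁.left) rfl
    let x₁ : V₁ ⟶ Q := Over.homMk (pullback.fst e.left c₁.left) (by
      change _ = pullback.snd e.left c₁.left ≫ TT.hom
      rw [← Over.w e, pullback.condition_assoc, Over.w c₁])
    have hx₁ : x₁ ≫ e = j₁ ≫ c₁ := Over.OverMorphism.ext pullback.condition
    let b₁ : V₁ ⟶ T := j₁ ≫ c₂
    have hTT : IsPullback c₁.left c₂.left q.left q.left := IsPullback.of_hasPullback q.left q.left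
    have hV₁ : IsPullback x₁.left j₁.left e.left c₁.left :=
      IsPullback.of_hasPullback e.left c₁.left
    have : Flat b₁.left := MorphismProperty.of_isPullback
      (hV₁.flip.paste_horiz hTT.flip).flip
      (show Flat (e.left ≫ q.left) by
        rw [← Over.comp_left, heq, Over.comp_left]; infer_instance)
    let V₂ : Over S := Over.mk (pullback.snd e.left b₁.left ≫ V₁.hom)
    let j₂ : V₂ ⟶ V₁ := Over.homMk (pullback.snd e.left b₁.left) rfl
    let x₂ : V₂ ⟶ Q := Over.homMk (pullback.fst e.left b₁.left) (by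
      change _ = pullback.snd e.left b₁.left ≫ V₁.hom
      rw [← Over.w e, pullback.condition_assoc, Over.w b₁])
    have hx₂ : x₂ ≫ e = j₂ ≫ b₁ := Over.OverMorphism.ext pullback.condition
    have h₂ : (j₂ ≫ x₁) ≫ qL = x₂ ≫ qL := by
      rw [← cancel_mono j]
      simp only [Category.assoc, ← heq]
      rw [reassoc_of% hx₁, hc, reassoc_of% hx₂]
      rfl
    have : Flat c₁.left := inferInstanceAs (Flat (pullback.fst q.left q.left))
    have hker : ∀ {X Y : Over S} (f : X ⟶ Y), IsSchemeTheoreticallyDominant f.left →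
        f.left.ker = ⊥ := fun f hf => hf.ker_eq_bot
    have key : (yon S).map c₁ ≫ r = (yon S).map c₂ ≫ r := by
      have hca : ((yon S).map c₁ ≫ r) ≫ a = ((yon S).map c₂ ≫ r) ≫ a := by
        simp only [Category.assoc, hra, ← Functor.map_comp]
        rw [← Category.assoc, hc, Category.assoc]
      refine eq_of_ker_eq_bot a hsep j₁ (hker j₁ (inferInstanceAs
        (IsSchemeTheoreticallyDominant (pullback.snd e.left c₁.left)))) _ _ hca ?_
      refine eq_of_ker_eq_bot a hsep j₂ (hker j₂ (inferInstanceAs
        (IsSchemeTheoreticallyDominant (pullback.snd e.left b₁.left)))) _ _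
        (by simp only [Category.assoc] at hca ⊢; rw [hca]) ?_
      calc (yon S).map j₂ ≫ (yon S).map j₁ ≫ (yon S).map c₁ ≫ r
          = (yon S).map (j₂ ≫ x₁) ≫ (yon S).map e ≫ r := by
            simp only [← Category.assoc, ← Functor.map_comp]
            simp only [Category.assoc, hx₁]
        _ = (yon S).map x₂ ≫ (yon S).map e ≫ r := by
            rw [her, ← Category.assoc, ← Functor.map_comp, h₂, Functor.map_comp, Category.assoc]
        _ = (yon S).map j₂ ≫ (yon S).map j₁ ≫ (yon S).map c₂ ≫ r := by
            simp only [← Category.assoc, ← Functor.map_comp, hx₂]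
            rfl
    let d : V ⟶ TT := Over.homMk (pullback.lift a'.left b'.left (congrArg (fun x => x.left) hab)) (by
      change _ ≫ pullback.fst q.left q.left ≫ T.hom = _
      rw [pullback.lift_fst_assoc]
      exact Over.w a')
    rw [show a' = d ≫ c₁ from Over.OverMorphism.ext (pullback.lift_fst _ _ _).symm,
      show b' = d ≫ c₂ from Over.OverMorphism.ext (pullback.lift_snd _ _ _).symm,
      Functor.map_comp, Functor.map_comp, Category.assoc, Category.assoc, key])
  refine ⟨l, hom_ext_fppf q _ _ ?_, hom_ext_fppf qL _ _ ?_⟩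
  · rw [← Category.assoc, hl, hra, Functor.map_comp]
  · rw [← her, ← hl, ← Category.assoc, ← Category.assoc, ← Functor.map_comp, ← Functor.map_comp,
      heq]

end Groth.Agent.DVRSpace
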