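import Groth.Agent.DVRSpace.Center
import Groth.Agent.AlgSp.PointsMor

/-!
A separated space of finite type over a Noetherian ring with lifting of discrete valuation rings is
universally closed.
-/

set_option autoImplicit false
set_option linter.unusedVariables false
set_option backward.isDefEq.respectTransparency false
set_option backward.isDefEq.respectTransparency.types false

universe u

open CategoryTheory CategoryTheory.Limits AlgebraicGeometry Opposite Topology

namespace Groth.Agent.DVRSpace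

open _root_.AlgSp

variable {S : Scheme.{u}}

/-- An affine chart of a separated space of finite type over an affine scheme. -/
theorem exists_chart {A₀ : Type u} [CommRing A₀] (u₀ : Spec (CommRingCat.of A₀) ⟶ S) {A : Sp S}
    (hA : IsAlgSpace A) (a : A ⟶ (yon S).obj (Over.mk u₀)) (hsep : IsSeparatedMor a)
    (hft : IsFiniteTypeMor a) :
    ∃ (B : CommRingCat.{u}) (φW : A₀ →+* B) (α : (yon S).obj (sp u₀ φW) ⟶ A), φW.FiniteType ∧
      RepWith @Etale α ∧ RepWith @Surjective α ∧ α ≫ a = (yon S).map (spTo u₀ φW) ∧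
      IsQuasiCompactMor α := by
  let U : Over S := Over.mk u₀
  have : IsAffine U.left := inferInstanceAs (IsAffine (Spec (CommRingCat.of A₀)))
  have hAc : CompactSpace (Points A) := AlgSp.compactSpace_points
    (hft.2 (IsAlgSpace.yon_obj U) (Groth.Agent.AlgSp.isQuasiCompactSp_yon U) (𝟙 _) (𝟙 A) a
      (IsPullback.of_horiz_isIso ⟨by simp⟩))
  obtain ⟨W₀, α₀, hα₀, hα₀s⟩ := hA.atlas
  obtain ⟨W', gW, hW, hα', hαs'⟩ := Groth.Agent.AlgSpB.exists_affine_chart_of_compactSpace hα₀ hα₀s
  let α' := (yon S).map gW ≫ α₀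
  obtain ⟨k', hk'⟩ := (yon S).map_surjective (α' ≫ a)
  obtain ⟨φc, hφc⟩ := Spec.map_surjective (W'.left.isoSpec.inv ≫ k'.left)
  let φW : A₀ →+* Γ(W'.left, ⊤) := φc.hom
  let W := sp u₀ φW
  let iW : W ⟶ W' := Over.homMk W'.left.isoSpec.inv (by
    rw [← Over.w k', ← Category.assoc]
    exact congrArg (· ≫ u₀) hφc.symm)
  have : IsIso iW.left := inferInstanceAs (IsIso W'.left.isoSpec.inv)
  let α := (yon S).map iW ≫ α'
  have hα : RepWith @Etale α := Groth.Agent.AlgSpB.repWith_etale_map_comp iW hα'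
  have hαs : RepWith @Surjective α :=
    (repWith_isMultiplicative (S := S) @Surjective).comp_mem _ _
      ((repWith_yon_map_iff _ _).2 (inferInstance : Surjective iW.left)) hαs'
  have hαa : α ≫ a = (yon S).map (spTo u₀ φW) := by
    rw [Category.assoc, ← hk', ← Functor.map_comp]
    exact congrArg (yon S).map (Over.OverMorphism.ext hφc.symm)
  have hkl : LocallyOfFiniteType (spTo u₀ φW).left :=
    hft.1 α (𝟙 _) (spTo u₀ φW) hα (repWith_id _ U) (by rw [Category.comp_id]; exact hαa)
  have hφW : φW.FiniteType := by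
    have h := hkl
    rw [show (spTo u₀ φW).left = Spec.map (CommRingCat.ofHom φW) from rfl,
      HasRingHomProperty.Spec_iff (P := @LocallyOfFiniteType)] at h
    exact h
  have : QuasiCompact (spTo u₀ φW).left :=
    inferInstanceAs (QuasiCompact (Spec.map (CommRingCat.ofHom φW)))
  refine ⟨_, φW, α, hφW, hα, hαs, hαa, ?_⟩
  refine Groth.Agent.AlgSp.isQuasiCompactMor_of_comp (IsAlgSpace.yon_obj W) hA
    (IsAlgSpace.yon_obj U) α a ?_ (Groth.Agent.AlgSp.isQuasiSeparatedMor_of_sep hsep)
  rw [hαa]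
  exact Groth.Agent.AlgSp.isQuasiCompactMor_of_repWith (IsAlgSpace.yon_obj U)
    ((repWith_yon_map_iff _ _).2 this)

theorem exists_valuationSubring_center {R K : Type u} [CommRing R] [Field K] (f : R →+* K)
    (p : Ideal R) [p.IsPrime] (hunit : ∀ y : p.primeCompl, IsUnit (f y)) :
    ∃ (V : ValuationSubring K) (g : R →+* V), V.subtype.comp g = f ∧
      (IsLocalRing.maximalIdeal V).comap g = p := by
  let f₀ : Localization.AtPrime p →+* K := IsLocalization.lift hunit
  have hf₀ : ∀ z, f₀ (algebraMap R (Localization.AtPrime p) z) = f z :=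
    IsLocalization.lift_eq hunit
  obtain ⟨V, hV, hVloc⟩ := IsLocalRing.exists_factor_valuationRing f₀
  refine ⟨V, (f₀.codRestrict V.toSubring hV).comp (algebraMap R (Localization.AtPrime p)),
    RingHom.ext hf₀, ?_⟩
  have : IsLocalRing V.toSubring := inferInstanceAs (IsLocalRing V)
  have h1 : (IsLocalRing.maximalIdeal V).comap (f₀.codRestrict V.toSubring hV) =
      IsLocalRing.maximalIdeal (Localization.AtPrime p) :=
    ((IsLocalRing.local_hom_TFAE (f₀.codRestrict V.toSubring hV)).out 0 4).1 hVloc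
  rw [← Ideal.comap_comap]
  exact (congrArg (Ideal.comap (algebraMap _ _)) h1).trans
    (IsLocalization.AtPrime.under_maximalIdeal (Localization.AtPrime p) p)

theorem isClosed_image_of_affine {X Y : Scheme.{u}} [IsAffine X] [IsAffine Y] (f : X ⟶ Y) {s : Set X}
    (hs : IsClosed s) (h : StableUnderSpecialization (f '' s)) : IsClosed (f '' s) := by
  obtain ⟨φ, hφ⟩ := Spec.map_surjective (X.isoSpec.inv ≫ f ≫ Y.isoSpec.hom)
  let eX := X.isoSpec.hom.homeomorph
  let eY := Y.isoSpec.hom.homeomorph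
  have himg : eY '' (f '' s) = PrimeSpectrum.comap φ.hom '' (eX '' s) := by
    rw [Set.image_image, Set.image_image]
    refine Set.image_congr fun x _ => ?_
    change Y.isoSpec.hom (f x) = Spec.map φ (X.isoSpec.hom x)
    rw [hφ, ← Scheme.Hom.comp_apply, ← Scheme.Hom.comp_apply, Iso.hom_inv_id_assoc]
  have hst : StableUnderSpecialization (eY '' (f '' s)) := by
    rintro _ q hyq ⟨y, hy, rfl⟩
    refine ⟨eY.symm q, h ?_ hy, eY.apply_symm_apply q⟩
    have := hyq.map eY.symm.continuous
    rwa [eY.symm_apply_apply] at this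
  have hc : IsClosed (eY '' (f '' s)) := by
    rw [himg] at hst ⊢
    exact PrimeSpectrum.isClosed_image_of_stableUnderSpecialization φ.hom _
      (eX.isClosedMap _ hs) hst
  exact eY.isClosed_image.1 hc

/-- Universal closedness over an affine Noetherian scheme from lifting of discrete valuation
rings. -/
theorem isUnivClosedMor_of_dvrLift {A₀ : Type u} [CommRing A₀] [IsNoetherianRing A₀]
    (u₀ : Spec (CommRingCat.of A₀) ⟶ S) {A : Sp S} (hA : IsAlgSpace A)
    (a : A ⟶ (yon S).obj (Over.mk u₀)) (hsep : IsSeparatedMor a) (hft : IsFiniteTypeMor a)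
    (H : DVRLift u₀ a) : IsUnivClosedMor a := by
  let U : Over S := Over.mk u₀
  have : IsAffine U.left := inferInstanceAs (IsAffine (Spec (CommRingCat.of A₀)))
  -- an affine chart
  obtain ⟨B, φW, α, hφW, hα, hαs, hαa, hαq⟩ := exists_chart u₀ hA a hsep hft
  let W := sp u₀ φW
  -- an affine test scheme
  refine (Groth.Agent.AlgSp.isUnivClosedMor_iff_affine a).2 fun Z hZ g P fst snd sq C hC => ?_
  obtain ⟨zU, rfl⟩ := (yon S).map_surjective g
  let k := spTo u₀ φW
  let WZ : Over S := Over.mk (pullback.fst k.left zU.left ≫ W.hom)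
  let pr₁ : WZ ⟶ W := Over.homMk (pullback.fst k.left zU.left) rfl
  let pr₂ : WZ ⟶ Z := Over.homMk (pullback.snd k.left zU.left) (by
    change _ = pullback.fst k.left zU.left ≫ W.hom
    rw [← Over.w k, ← Category.assoc, pullback.condition, Category.assoc, Over.w zU])
  have hWZ : IsPullback pr₁ pr₂ k zU :=
    IsPullback.of_map (Over.forget S) (Over.OverMorphism.ext pullback.condition)
      (IsPullback.of_hasPullback k.left zU.left)
  have : IsAffine W.left := inferInstanceAs (IsAffine (Spec (CommRingCat.of B)))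
  have : IsAffine WZ.left := inferInstanceAs (IsAffine (pullback k.left zU.left))
  have hsqY := hWZ.map (yon S)
  have hlift : ((yon S).map pr₁ ≫ α) ≫ a = (yon S).map pr₂ ≫ (yon S).map zU := by
    rw [Category.assoc, hαa]
    exact hsqY.w
  let αZ := sq.lift _ _ hlift
  have sq₂ : IsPullback ((yon S).map pr₁) αZ α fst :=
    IsPullback.of_bot (by rw [sq.lift_snd, hαa]; exact hsqY) (sq.lift_fst _ _ hlift).symm sq
  have hαZs : RepWith @Surjective αZ := MorphismProperty.of_isPullback sq₂ hαs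
  let C' : Set WZ.left := Points.ofPt αZ ⁻¹' C
  have hC' : IsClosed C' := hC.preimage (Points.continuous_ofPt αZ)
  have hpt : ∀ w : WZ.left,
      Points.map snd (Points.ofPt αZ w) = Points.schemeHomeo Z (pr₂.left w) := by
    intro w
    rw [Points.map_ofPt, sq.lift_snd]
    change _ = Points.ofPt (𝟙 _) (pr₂.left w)
    rw [← Groth.Agent.AlgSpB.ofPt_map_comp, Category.comp_id]
  have himg : Points.map snd '' C = Points.schemeHomeo Z '' (pr₂.left '' C') := by
    ext z
    constructor
    · rintro ⟨Q, hQ, rfl⟩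
      obtain ⟨w, rfl⟩ := Groth.Agent.AlgSpB.surjective_ofPt hαZs Q
      exact ⟨_, ⟨w, hQ, rfl⟩, (hpt w).symm⟩
    · rintro ⟨_, ⟨w, hw, rfl⟩, rfl⟩
      exact ⟨_, hw, hpt w⟩
  rw [himg]
  refine (Points.schemeHomeo Z).isClosedMap _ (isClosed_image_of_affine pr₂.left hC' ?_)
  rintro _ z₀ hz ⟨c, hc, rfl⟩
  -- a geometric point at `c`
  let M := AlgebraicClosure (WZ.left.residueField c)
  let cb : Spec (CommRingCat.of M) ⟶ WZ.left :=
    Spec.map (CommRingCat.ofHom (algebraMap (WZ.left.residueField c) M)) ≫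
      WZ.left.fromSpecResidueField c
  have hcb : cb (IsLocalRing.closedPoint M) = c := by
    rw [Scheme.Hom.comp_apply]
    exact Scheme.fromSpecResidueField_apply _ _
  obtain ⟨ψ, hψ⟩ := Spec.map_surjective (cb ≫ pr₂.left ≫ Z.left.isoSpec.hom)
  obtain ⟨φC, hφC⟩ := Spec.map_surjective (Z.left.isoSpec.inv ≫ zU.left)
  let φM : A₀ →+* M := ψ.hom.comp φC.hom
  have hψ' : Spec.map ψ ≫ Z.left.isoSpec.inv = cb ≫ pr₂.left := by
    simp only [hψ, Category.assoc, Iso.hom_inv_id, Category.comp_id]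
  have hφM : Spec.map (CommRingCat.ofHom φM) = cb ≫ pr₂.left ≫ zU.left := by
    rw [← Category.assoc, ← hψ', Category.assoc, ← hφC, ← Spec.map_comp]
    rfl
  have hcomm : pr₁.left ≫ k.left = pr₂.left ≫ zU.left := congrArg (fun x => x.left) hWZ.w
  let cW : sp u₀ φM ⟶ W := Over.homMk (cb ≫ pr₁.left) (by
    rw [← Over.w k, ← Category.assoc, Category.assoc cb, hcomm]
    change _ = Spec.map (CommRingCat.ofHom φM) ≫ u₀
    rw [hφM]
    simp only [Category.assoc]
    rfl)
  have hcW : cW ≫ k = spTo u₀ φM := Over.OverMorphism.ext (by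
    change (cb ≫ pr₁.left) ≫ k.left = Spec.map (CommRingCat.ofHom φM)
    rw [hφM, Category.assoc, hcomm])
  let x := (yon S).map cW ≫ α
  have hx : x ≫ a = (yon S).map (spTo u₀ φM) := by
    rw [Category.assoc, hαa, ← Functor.map_comp, hcW]
  -- the valuation ring
  let p₀ : PrimeSpectrum Γ(Z.left, ⊤) := Z.left.isoSpec.hom z₀
  have hp : PrimeSpectrum.comap ψ.hom (IsLocalRing.closedPoint M) ≤ p₀ := by
    rw [PrimeSpectrum.le_iff_specializes]
    have h1 : Z.left.isoSpec.hom (pr₂.left (cb (IsLocalRing.closedPoint M))) ⤳ p₀ := by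
      rw [hcb]
      exact hz.map Z.left.isoSpec.hom.continuous
    change Spec.map ψ (IsLocalRing.closedPoint M) ⤳ p₀
    rw [hψ]
    exact h1
  have hunit : ∀ y : p₀.asIdeal.primeCompl, IsUnit (ψ.hom y) := fun y =>
    isUnit_iff_ne_zero.2 fun h0 => y.2 (hp (by
      change ψ.hom y.1 ∈ (IsLocalRing.closedPoint M).asIdeal
      rw [h0]; exact zero_mem _))
  obtain ⟨V, ψV, hψV, hclosed'⟩ := exists_valuationSubring_center ψ.hom p₀.asIdeal hunit
  have hclosed : PrimeSpectrum.comap ψV (IsLocalRing.closedPoint V) = p₀ :=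
    PrimeSpectrum.ext hclosed'
  obtain ⟨β, hβ, hβx, hβV⟩ := exists_center u₀ a hsep φW hφW α hαa hα hαs hαq H φM x hx V
    (fun d => (RingHom.congr_fun hψV (φC.hom d)) ▸ (ψV (φC.hom d)).2)
  let βV : B →+* V := β.codRestrict V.toSubring hβV
  have hψVs : V.subtype.comp ψV = ψ.hom := hψV
  have hlw : Spec.map (CommRingCat.ofHom βV) ≫ k.left =
      (Spec.map (CommRingCat.ofHom ψV) ≫ Z.left.isoSpec.inv) ≫ zU.left := by
    rw [Category.assoc, ← hφC]
    change Spec.map _ ≫ Spec.map (CommRingCat.ofHom φW) = _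
    rw [← Spec.map_comp, ← Spec.map_comp]
    congr 1
    ext d
    change β (φW d) = (ψV (φC.hom d) : M)
    rw [← RingHom.comp_apply β, hβ]
    exact (RingHom.congr_fun hψVs (φC.hom d)).symm
  let l : Spec (CommRingCat.of V) ⟶ WZ.left := pullback.lift _ _ hlw
  let γ : Spec (CommRingCat.of M) ⟶ WZ.left := Spec.map (CommRingCat.ofHom V.subtype) ≫ l
  have hγ₁ : γ ≫ pr₁.left = Spec.map (CommRingCat.ofHom β) := by
    change (_ ≫ l) ≫ pullback.fst k.left zU.left = _
    rw [Category.assoc, pullback.lift_fst, ← Spec.map_comp]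
    rfl
  have hγ₂ : γ ≫ pr₂.left = cb ≫ pr₂.left := by
    rw [← hψ']
    change (_ ≫ l) ≫ pullback.snd k.left zU.left = _
    rw [Category.assoc, pullback.lift_snd, ← Spec.map_comp_assoc, ← CommRingCat.ofHom_comp, hψVs]
    rfl
  let T : Over S := sp u₀ φM
  have hstr : ∀ δ : Spec (CommRingCat.of M) ⟶ WZ.left, δ ≫ pr₂.left = cb ≫ pr₂.left →
      δ ≫ WZ.hom = T.hom := fun δ hδ => by
    rw [← Over.w pr₂, ← Category.assoc, hδ, ← Over.w zU]
    change _ = Spec.map (CommRingCat.ofHom φM) ≫ u₀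
    rw [hφM]
    simp only [Category.assoc]
    rfl
  let cT : T ⟶ WZ := Over.homMk cb (hstr cb rfl)
  let γT : T ⟶ WZ := Over.homMk γ (hstr γ hγ₂)
  have hfst : ∀ δ : T ⟶ WZ,
      ((yon S).map δ ≫ αZ) ≫ fst = (yon S).map (δ ≫ pr₁) ≫ α := fun δ => by
    rw [Category.assoc, sq.lift_fst, ← Category.assoc]
    exact congrArg (· ≫ α) ((yon S).map_comp δ pr₁).symm
  have hsame : (yon S).map γT ≫ αZ = (yon S).map cT ≫ αZ := by
    refine sq.hom_ext ?_ ?_
    · rw [hfst, hfst, show γT ≫ pr₁ = spMap u₀ β hβ from Over.OverMorphism.ext hγ₁,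
        show cT ≫ pr₁ = cW from Over.OverMorphism.ext rfl]
      exact hβx
    · simp only [αZ, Category.assoc, sq.lift_snd, ← Functor.map_comp]
      exact congrArg (yon S).map (Over.OverMorphism.ext hγ₂)
  have hγC : γ (IsLocalRing.closedPoint M) ∈ C' := by
    change Points.ofPt αZ (γT.left (IsLocalRing.closedPoint M)) ∈ C
    rw [← Groth.Agent.AlgSpB.ofPt_map_comp γT αZ, hsame, Groth.Agent.AlgSpB.ofPt_map_comp]
    change Points.ofPt αZ (cb (IsLocalRing.closedPoint M)) ∈ C
    rw [hcb]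
    exact hc
  refine ⟨l (IsLocalRing.closedPoint V), ?_, ?_⟩
  · have hspec : γ (IsLocalRing.closedPoint M) ⤳ l (IsLocalRing.closedPoint V) :=
      (IsLocalRing.specializes_closedPoint _).map l.continuous
    exact hspec.mem_closed hC' hγC
  · have h1 : Spec.map (CommRingCat.ofHom ψV) (IsLocalRing.closedPoint V) = p₀ := hclosed
    have h2 : l ≫ pr₂.left = Spec.map (CommRingCat.ofHom ψV) ≫ Z.left.isoSpec.inv :=
      pullback.lift_snd _ _ hlw
    have h3 := congrArg (fun f => f (IsLocalRing.closedPoint V)) h2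
    simp only [Scheme.Hom.comp_apply] at h3
    refine h3.trans ?_
    rw [h1]
    change (Z.left.isoSpec.hom ≫ Z.left.isoSpec.inv) z₀ = z₀
    rw [Iso.hom_inv_id]
    rfl

end Groth.Agent.DVRSpace
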